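import Groth.Agent.SecDivLib.Unique
import Groth.Agent.FibDimLib.FieldExt
import Groth.Agent.HilbPolyLib.BaseField
import Groth.Prelude.Def_AbDual
import Groth.Prelude.Def_PicGrp

/-!
# Sections pulled back from the diagonal
-/

set_option autoImplicit false
set_option linter.style.haveILetI false
set_option linter.unusedSectionVars false
set_option maxRecDepth 8000
universe u

open CategoryTheory CategoryTheory.Limits AlgebraicGeometry TopologicalSpace Opposite

noncomputable section

namespace SecDivLib

/-- The genus of fibres is unchanged by base change. -/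
theorem fiberRank_structure_bc {X Y X' Y' : Scheme.{u}} {f : X ⟶ Y} [IsProper f] {g : Y' ⟶ Y} {f' : X' ⟶ Y'}
    {g' : X' ⟶ X} (hc : IsPullback g' f' f g) (y' : Y') (i : ℕ) :
    CohIII.fiberRank f' (Coh.structureModule X') i y' = CohIII.fiberRank f (Coh.structureModule X) i (g y') := by
  let k : Type u := Y.residueField (g y')
  let K : Type u := Y'.residueField y'
  letI : Algebra k K := (g.residueFieldMap y').hom.toAlgebra
  let Z := f.fiber (g y')
  let Z' := f'.fiber y'
  letI : Z.Over (Spec (CommRingCat.of k)) := ⟨f.fiberToSpecResidueField (g y')⟩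
  letI : Z'.Over (Spec (CommRingCat.of K)) := ⟨f'.fiberToSpecResidueField y'⟩
  haveI : IsProper (Z ↘ Spec (CommRingCat.of k)) := MorphismProperty.pullback_snd f _ inferInstance
  haveI := CurvLib.isNoetherian k (X := Z)
  haveI : Coh.IsQCoh (Coh.structureModule Z) := QCohLib.isQCoh_unit
  let m : Z' ⟶ Z := pullback.map _ _ _ _ g' (Spec.map (g.residueFieldMap y')) g hc.w.symm (by simp)
  obtain ⟨e⟩ := RpushLib.nonempty_affBase_bc (A := k) (B := K) (g' := m)
    (f' := Z' ↘ Spec (CommRingCat.of K)) (f := Z ↘ Spec (CommRingCat.of k))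
    (isPullback_fiberToSpecResidueField_of_isPullback hc y') (Coh.structureModule Z) i
  calc CohIII.fiberRank f' (Coh.structureModule X') i y'
      = Module.finrank K (Coh.HH Z' (Coh.structureModule Z') i) :=
        (CurvLib.hIso (k := K) (KFlatLib.pullUnitIso (f'.fiberι y')) i).finrank_eq
    _ = Module.finrank K (Coh.HH Z' (KFlatLib.pb m (Coh.structureModule Z)) i) :=
        (CurvLib.hIso (k := K) (KFlatLib.pullUnitIso m).symm i).finrank_eq
    _ = Module.finrank k (Coh.HH Z (Coh.structureModule Z) i) :=
        e.finrank_eq.symm.trans (Module.finrank_baseChange (R := K) (S := k) (M' := Coh.HH Z (Coh.structureModule Z) i))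
    _ = CohIII.fiberRank f (Coh.structureModule X) i (g y') :=
        ((CurvLib.hIso (k := k) (KFlatLib.pullUnitIso (f.fiberι (g y'))) i).finrank_eq).symm

variable {C S : Scheme.{u}} (f : C ⟶ S)

/-- The point of `C_T` given by a `T`-point. -/
def pointSec {T : Over S} (u : T ⟶ Over.mk f) : T.left ⟶ PicF.XT f T :=
  pullback.lift u.left (𝟙 _) (by rw [Category.id_comp]; exact Over.w u)

theorem pointSec_proj {T : Over S} (u : T ⟶ Over.mk f) : pointSec f u ≫ PicF.XTproj f T = 𝟙 _ :=
  pullback.lift_snd _ _ _

theorem isPullback_pointSec {T : Over S} (u : T ⟶ Over.mk f) :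
    IsPullback u.left (pointSec f u) (pullback.diagonal f) (PicF.XTmap f u) := by
  have hw : u.left ≫ pullback.diagonal f = pointSec f u ≫ PicF.XTmap f u := by
    apply pullback.hom_ext
    · rw [Category.assoc, pullback.diagonal_fst, Category.comp_id, Category.assoc]
      erw [pullback.lift_fst, ← Category.assoc, pullback.lift_fst, Category.comp_id]
    · rw [Category.assoc, pullback.diagonal_snd, Category.comp_id, Category.assoc]
      erw [pullback.lift_snd, ← Category.assoc, pullback.lift_snd, Category.id_comp]
  have hr : IsPullback (PicF.XTmap f u) (PicF.XTproj f T) (pullback.snd f f) u.left := by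
    refine IsPullback.of_right ?_ (pullback.lift_snd _ _ _) (IsPullback.of_hasPullback f f)
    have e : PicF.XTmap f u ≫ pullback.fst f f = pullback.fst f T.hom := by
      exact (pullback.lift_fst _ _ _).trans (Category.comp_id _)
    rw [e, show u.left ≫ f = T.hom from Over.w u]
    exact IsPullback.of_hasPullback f T.hom
  refine IsPullback.of_bot ?_ hw hr
  rw [pointSec_proj, pullback.diagonal_snd]
  exact IsPullback.of_vert_isIso ⟨by simp⟩

variable [IsProper f] [Smooth f] [GeometricallyConnected f]
  (hdim : ∀ s : S, topologicalKrullDim ↥(f.fiber s) = 1)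
  (hg : ∀ s : S, 1 ≤ CohIII.fiberRank f (Coh.structureModule C) 1 s)

include hdim hg in
/-- Points with the same pulled back bundle of the diagonal are equal. -/
theorem point_unique {L : (PicF.XT f (Over.mk f)).Modules} (hL : PicF.IsInvertible L)
    (hΔ : ClSub.IsInverseOf L (ClSub.idealMod (pullback.diagonal f).ker)) {T : Over S} (u u' : T ⟶ Over.mk f)
    (h : PicF.pullCl (PicF.XTmap f u) (PicF.cl L) = PicF.pullCl (PicF.XTmap f u') (PicF.cl L)) : u = u' := by
  obtain ⟨e⟩ := (PicGrp.cl_eq_cl_iff _ _).1 h
  obtain ⟨σ, hσ⟩ := exists_secHom (L := L) hL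
    (IntMultLib.isEffCartier_of_isInvertible _ (CohCmpLib.isInvertible_of_inverse' hL hΔ.some)) hΔ
  haveI : IsClosedImmersion (pullback.diagonal f) := inferInstance
  let p := PicF.XTproj f T
  have H : IsPullback (pullback.fst f T.hom) p f T.hom := IsPullback.of_hasPullback f T.hom
  haveI : IsProper p := MorphismProperty.of_isPullback H ‹IsProper f›
  haveI : Smooth p := MorphismProperty.of_isPullback H ‹Smooth f›
  haveI : GeometricallyConnected p := MorphismProperty.of_isPullback H ‹GeometricallyConnected f›
  have hz : ∀ v : T ⟶ Over.mk f, PicF2.zeroScheme (KFlatLib.pb (PicF.XTmap f v) L) (pbSec (PicF.XTmap f v) σ) =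
      (pointSec f v).ker := fun v => by
    rw [zeroScheme_pbSec _ hL σ, hσ]
    exact comap_ker_of_isPullback (isPullback_pointSec f v)
  have hd : ∀ t : T.left, topologicalKrullDim ↥(p.fiber t) = 1 := fun t =>
    (FibDimLib.topologicalKrullDim_fiber_baseChange H t).trans (hdim _)
  have hg' : ∀ t : T.left, 1 ≤ CohIII.fiberRank p (Coh.structureModule _) 1 t := fun t =>
    (hg _).trans_eq (fiberRank_structure_bc H t 1).symm
  have := section_unique_of_iso p hd hg' (pointSec f u) (pointSec f u') (pointSec_proj f u) (pointSec_proj f u')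
    (AmpleDevLib.isInvertible_pb _ hL) (AmpleDevLib.isInvertible_pb _ hL) e
    (pbSec (PicF.XTmap f u) σ) (hz u) (pbSec (PicF.XTmap f u') σ) (hz u')
  refine Over.OverMorphism.ext ?_
  have h1 := congrArg (· ≫ pullback.fst f T.hom) this
  simp only [pointSec] at h1
  erw [pullback.lift_fst, pullback.lift_fst] at h1
  exact h1.symm

end SecDivLib

end
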