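import Groth.Agent.SecDivLib.Point
import Groth.Agent.CohCmpLib.TrivFibre
import Groth.Agent.CohCmpLib.LineBundle

/-!
# The bundle of a section of a family of curves of positive genus
-/

set_option autoImplicit false
set_option linter.style.haveILetI false
set_option linter.unusedSectionVars false
set_option maxRecDepth 8000
universe u

open CategoryTheory CategoryTheory.Limits AlgebraicGeometry TopologicalSpace Opposite

noncomputable section

namespace SecDivLib

theorem bc0_naturality {X S X' S' : Scheme.{u}} {f : X ⟶ S} {g : S' ⟶ S} {f' : X' ⟶ S'} {g' : X' ⟶ X}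
    (w : g' ≫ f = f' ≫ g) {F G : X.Modules} (φ : F ⟶ G) :
    (Scheme.Modules.pullback g).map ((Scheme.Modules.pushforward f).map φ) ≫ CohBC.bc0 f g f' g' w G =
      CohBC.bc0 f g f' g' w F ≫ (Scheme.Modules.pushforward f').map ((Scheme.Modules.pullback g').map φ) := by
  unfold CohBC.bc0
  rw [← Adjunction.homEquiv_naturality_left_symm, ← Adjunction.homEquiv_naturality_right_symm]
  congr 1
  simp only [CohBC.bc0Adj, Category.assoc]
  rw [← Functor.map_comp_assoc]
  erw [(Scheme.Modules.pullbackPushforwardAdjunction g').unit.naturality φ]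
  rw [Functor.map_comp_assoc]
  congr 1
  erw [← (Scheme.Modules.pushforwardComp f' g).inv.naturality, ← (Scheme.Modules.pushforwardCongr w).hom.naturality_assoc,
    ← (Scheme.Modules.pushforwardComp g' f).hom.naturality_assoc]

variable {C S : Scheme.{u}} (f : C ⟶ S)

/-- The point of a fibre on a section. -/
def fibrePt (x : S ⟶ C) (hx : x ≫ f = 𝟙 S) (s : S) : Spec (S.residueField s) ⟶ f.fiber s :=
  pullback.lift (S.fromSpecResidueField s ≫ x) (𝟙 _) (by rw [Category.assoc, hx, Category.comp_id, Category.id_comp])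

theorem fibrePt_toSpec (x : S ⟶ C) (hx : x ≫ f = 𝟙 S) (s : S) :
    fibrePt f x hx s ≫ f.fiberToSpecResidueField s = 𝟙 _ := pullback.lift_snd _ _ _

theorem isPullback_fibrePt (x : S ⟶ C) (hx : x ≫ f = 𝟙 S) (s : S) :
    IsPullback (S.fromSpecResidueField s) (fibrePt f x hx s) x (f.fiberι s) := by
  have hw : S.fromSpecResidueField s ≫ x = fibrePt f x hx s ≫ f.fiberι s := (pullback.lift_fst _ _ _).symm
  refine IsPullback.of_bot ?_ hw (IsPullback.of_hasPullback f (S.fromSpecResidueField s))
  rw [hx]
  haveI : IsIso (fibrePt f x hx s ≫ pullback.snd f (S.fromSpecResidueField s)) := by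
    erw [fibrePt_toSpec f x hx s]; infer_instance
  exact (IsPullback.of_vert_isIso ⟨by erw [fibrePt_toSpec f x hx s]; simp⟩)

variable [IsProper f] [Smooth f] [GeometricallyConnected f]
  (hdim : ∀ s : S, topologicalKrullDim ↥(f.fiber s) = 1)
  (hg : ∀ s : S, 1 ≤ CohIII.fiberRank f (Coh.structureModule C) 1 s)

include hdim hg in
/-- The bundle of a section pushes forward to the structure sheaf, through its section. -/
theorem push_section (x : S ⟶ C) (hx : x ≫ f = 𝟙 S) {L : C.Modules} (hL : PicF.IsInvertible L)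
    (σ : Coh.structureModule C ⟶ L) (hσ : PicF2.zeroScheme L σ = x.ker) :
    FlatMod.IsFinLocFreeOfRank 1 ((Scheme.Modules.pushforward f).obj L) ∧
      IsIso (ClSub.unitToPush f ≫ (Scheme.Modules.pushforward f).map σ) := by
  haveI : IsClosedImmersion x := by
    haveI : IsClosedImmersion (x ≫ f) := by rw [hx]; infer_instance
    exact IsClosedImmersion.of_comp x f
  obtain ⟨hQ, hfp, hfl⟩ := CohCmpLib.rank_one_hyps f ((CohCmpLib.invertible_iff_rank_one _).1 hL)
  haveI := hQ
  let h := ClSub.unitToPush f ≫ (Scheme.Modules.pushforward f).map σ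
  have key : ∀ s : S, CohIII.fiberRank f L 0 s = 1 ∧
      Epi ((Scheme.Modules.pullback (S.fromSpecResidueField s)).map h ≫
        CohBC.bc0 f (S.fromSpecResidueField s) (f.fiberToSpecResidueField s) (f.fiberι s) (f.fiber_fac s) L) := by
    intro s
    let k : Type u := S.residueField s
    letI : (f.fiber s).Over (Spec (CommRingCat.of k)) := ⟨f.fiberToSpecResidueField s⟩
    haveI : IsProper ((f.fiber s) ↘ Spec (CommRingCat.of k)) := MorphismProperty.pullback_snd f _ inferInstance
    haveI : Smooth ((f.fiber s) ↘ Spec (CommRingCat.of k)) := MorphismProperty.pullback_snd f _ inferInstance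
    haveI : GeometricallyConnected ((f.fiber s) ↘ Spec (CommRingCat.of k)) :=
      MorphismProperty.pullback_snd f _ inferInstance
    let xs := fibrePt f x hx s
    have hzs : PicF2.zeroScheme (KFlatLib.pb (f.fiberι s) L) (pbSec (f.fiberι s) σ) = xs.ker := by
      rw [zeroScheme_pbSec (f.fiberι s) hL σ, hσ]
      exact comap_ker_of_isPullback (isPullback_fibrePt f x hx s)
    have hgs : 1 ≤ Curv2.genus k (f.fiber s) := (hg s).trans_eq
      (CurvLib.hIso (k := k) (KFlatLib.pullUnitIso (f.fiberι s)) 1).finrank_eq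
    obtain ⟨hne, h1⟩ := mono_and_h0 (k := k) (hdim s) xs (fibrePt_toSpec f x hx s)
      (AmpleDevLib.isInvertible_pb _ hL) (pbSec (f.fiberι s) σ) hzs hgs
    refine ⟨h1, ?_⟩
    let g := S.fromSpecResidueField s
    let f' := f.fiberToSpecResidueField s
    let L' := KFlatLib.pb (f.fiberι s) L
    have e : (Scheme.Modules.pullback g).map h ≫ CohBC.bc0 f g f' (f.fiberι s) (f.fiber_fac s) L =
        (KFlatLib.pullUnitIso g).hom ≫ ClSub.unitToPush f' ≫
          (Scheme.Modules.pushforward f').map (pbSec (f.fiberι s) σ) := by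
      rw [Functor.map_comp, Category.assoc, bc0_naturality, ← reassoc_of% (CohCmpLib.bc0_unit (f.fiber_fac s)),
        ← Functor.map_comp, pbSec, Iso.hom_inv_id_assoc]
    rw [e]
    haveI : QuasiSeparated f' := inferInstanceAs (QuasiSeparated ((f.fiber s) ↘ Spec (CommRingCat.of k)))
    haveI : QuasiCompact f' := inferInstanceAs (QuasiCompact ((f.fiber s) ↘ Spec (CommRingCat.of k)))
    haveI : Coh.IsQCoh L' := KFlatLib.isQCoh_pullback _ L
    haveI : Coh.IsQCoh ((Scheme.Modules.pushforward f').obj L') := QCohLib.isQCoh_pushforward f' L'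
    haveI : Epi (ClSub.unitToPush f' ≫ (Scheme.Modules.pushforward f').map (pbSec (f.fiberι s) σ)) := by
      refine QCohLib.epi_of_surjective_on_affines _ fun O t z hz => ?_
      obtain rfl : O = ⊤ := top_le_iff.1 fun z' _ => by rwa [Subsingleton.elim (α := PrimeSpectrum k) z' z]
      refine ⟨⊤, le_rfl, hz, ?_⟩
      letI := GenusZeroLib.kmod k L'
      haveI := CurvLib.finite_HH (k := k) (CurvLib.isCoh_of_isInvertible (AmpleDevLib.isInvertible_pb (f.fiberι s) hL)) 0
      have hne' : (pbSec (f.fiberι s) σ).app ⊤ (1 : Γ(f.fiber s, ⊤)) ≠ 0 := fun h0 =>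
        hne (ProjSecLib.eq_zero_of_sec _ h0)
      have h1' : Module.finrank k Γ(L', ⊤) = 1 := (GenusZeroLib.e0k k L').finrank_eq.symm.trans h1
      obtain ⟨c, hc⟩ := (finrank_eq_one_iff_of_nonzero' _ hne').1 h1'
        (show Γ(L', ⊤) from ((Scheme.Modules.pushforward f').obj L').presheaf.map (homOfLE le_rfl).op t)
      refine ⟨(Scheme.ΓSpecIso (CommRingCat.of k)).inv c, Eq.trans ?_ hc⟩
      exact AmpleFinGenLib.app_eq_smul_secOn (pbSec (f.fiberι s) σ) ⊤ _
    exact epi_comp _ _
  have he : ∀ s, Epi (CohBC.bc0 f (S.fromSpecResidueField s) (f.fiberToSpecResidueField s) (f.fiberι s)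
      (f.fiber_fac s) L) := fun s => by
    haveI := (key s).2
    exact epi_of_epi ((Scheme.Modules.pullback (S.fromSpecResidueField s)).map h) _
  obtain ⟨hP, hbc⟩ := CohCmpLib.stratLocal_one hfp hfl (fun s => (key s).1) he
  refine ⟨hP, ?_⟩
  have hPc := LocSuppLib.isCoh_of_isFinLocFree fun x => let ⟨U, h⟩ := hP x; ⟨U, 1, h⟩
  haveI : Coh.IsQCoh (Coh.structureModule S) := QCohLib.isQCoh_unit
  haveI : Coh.IsQCoh ((Scheme.Modules.pushforward f).obj L) := hPc.1
  haveI : Epi h := by
    refine CohCmpLib.epi_of_epi_pullbacks hPc.2 _ fun s => ?_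
    obtain ⟨z⟩ : Nonempty (Spec (S.residueField s)) := inferInstance
    refine ⟨_, S.fromSpecResidueField s, z, Scheme.fromSpecResidueField_apply _ _, ?_⟩
    haveI : IsIso (CohBC.bc0 f (S.fromSpecResidueField s) (f.fiberToSpecResidueField s) (f.fiberι s)
        (f.fiber_fac s) L) := hbc (IsPullback.of_hasPullback f (S.fromSpecResidueField s))
    exact (epi_comp_iff_of_isIso _ _).1 (key s).2
  exact CohCmpLib.isIso_of_epi_rank_one (CohCmpLib.rank_one_structureModule S) hP h

end SecDivLib

end
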