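import Groth.Agent.AmpleFinGenLib.Divisor
import Groth.Agent.MeroLib.RegSec
import Groth.Agent.GrTildeLib.TensLift
import Groth.Agent.CubeLib.Glue
import Groth.Agent.CohCmpLib.UnitFibre
import Groth.Agent.S4666

/-!
# Zero schemes of sections: inverse bundles, pullbacks, unit multiples
-/

set_option autoImplicit false
set_option linter.style.haveILetI false
set_option linter.unusedSectionVars false
set_option backward.isDefEq.respectTransparency false
universe u

open CategoryTheory CategoryTheory.Limits AlgebraicGeometry TopologicalSpace Opposite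
open AmpleLib (GenAt GenOn res shT)
open KFlatLib (pb puSec puSecLE)

noncomputable section

namespace SecDivLib

variable {X Y : Scheme.{u}}

theorem ext_affine_cover {I J : X.IdealSheafData}
    (h : ∀ x : X, ∃ W : X.affineOpens, x ∈ W.1 ∧ I.ideal W = J.ideal W) : I = J := by
  choose W hx hW using h
  exact Scheme.IdealSheafData.ext_of_iSup_eq_top W
    (eq_top_iff.mpr fun x _ => Opens.mem_iSup.mpr ⟨x, hx x⟩) hW

/-- An inverse of the module of an effective Cartier ideal has a section with that zero scheme. -/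
theorem exists_secHom {L : X.Modules} (hL : PicF.IsInvertible L) {I : X.IdealSheafData}
    (hI : BlowUp.IsEffCartierIdeal I) (hLI : ClSub.IsInverseOf L (ClSub.idealMod I)) :
    ∃ s : Coh.structureModule X ⟶ L, PicF2.zeroScheme L s = I := by
  obtain ⟨e⟩ := hLI
  let b : ∀ V : X.Opens, Γ(L, V) → Γ(ClSub.idealMod I, V) → Γ(L, V) := fun V m i =>
    (show Γ(X, V) from (ClSub.idealModι I).app V i) • m
  obtain ⟨φ, hφ⟩ := GrTildeLib.exists_tens_hom b (fun V m m' i => smul_add _ _ _)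
    (fun V m i i' => (congrArg (fun z : Γ(X, V) => z • m) (map_add ((ClSub.idealModι I).app V).hom i i')).trans
      (add_smul _ _ _))
    (fun V r m i => by simp only [b, smul_smul, mul_comm])
    (fun V r m i => by
      simp only [b, IntMultLib.idealModι_smul, smul_smul])
    (fun V W h m i => by
      refine (AmpleLib.res_smul L h _ m).trans ?_
      exact congrArg (fun z : Γ(X, V) => z • res L h m) (QCohLib.app_map (ClSub.idealModι I) (homOfLE h) i).symm)
  refine ⟨e.inv ≫ φ, ext_affine_cover fun x => ?_⟩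
  have hI' := IntMultLib.isInvertible_idealMod I hI
  obtain ⟨U, t, hxU, ht⟩ := TwistLib.exists_genOn hI' x
  obtain ⟨U', g, hxU', hg⟩ := TwistLib.exists_genOn hL x
  obtain ⟨W, hW, hxW, hWU⟩ := exists_isAffineOpen_mem_and_subset (U := U ⊓ U') (x := x) ⟨hxU, hxU'⟩
  have hWU₁ : W ≤ U := fun y hy => (hWU hy).1
  have hWU₂ : W ≤ U' := fun y hy => (hWU hy).2
  have htW := ht.res hWU₁
  have hgW := hg.res hWU₂
  refine ⟨⟨W, hW⟩, hxW, ?_⟩
  let tW := res (ClSub.idealMod I) hWU₁ t
  let gW := res L hWU₂ g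
  let a : Γ(X, W) := (ClSub.idealModι I).app W tW
  -- the ideal is generated by the image of the generator
  have hIW : I.ideal ⟨W, hW⟩ = Ideal.span {a} := by
    refine le_antisymm (fun z hz => ?_) (Ideal.span_le.2 (Set.singleton_subset_iff.2 ?_))
    · obtain ⟨z', hz'⟩ := IntMultLib.exists_section I ⟨W, hW⟩ hz
      obtain ⟨r, hr⟩ := (htW W le_rfl).2 z'
      simp only [AmpleLib.res_refl] at hr
      refine Ideal.mem_span_singleton'.2 ⟨r, ?_⟩
      rw [← hz', ← hr]
      exact (IntMultLib.idealModι_smul I W r tW).symm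
    · exact (IntMultLib.toSubscheme_app_eq_zero_iff I ⟨W, hW⟩ a).mp
        (ConcreteCategory.congr_hom (congrArg (fun ψ : ClSub.idealMod I ⟶ ClSub.quotMod I => ψ.app W)
          (kernel.condition (ClSub.toSubscheme I))) _)
  -- the unit section
  have hT : GenOn (CohB1.tensorMod L (ClSub.idealMod I)) (shT gW tW) := AmpleThLib.shT_genOn hgW htW
  obtain ⟨u, hu⟩ := (hT W le_rfl).2 (e.inv.app W (show Γ(Coh.structureModule X, W) from (1 : Γ(X, W))))
  simp only [AmpleLib.res_refl] at hu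
  have huU : IsUnit u := by
    refine IsUnit.of_mul_eq_one (show Γ(X, W) from e.hom.app W (shT gW tW)) ?_
    refine Eq.trans ?_ (show (show Γ(X, W) from e.hom.app W (e.inv.app W
      (show Γ(Coh.structureModule X, W) from (1 : Γ(X, W))))) = 1 from
        congr(Scheme.Modules.Hom.app $(e.inv_hom_id) W (show Γ(Coh.structureModule X, W) from (1 : Γ(X, W)))))
    rw [← hu]
    exact (QCohLib.app_smul e.hom W u _).symm
  have hsec : (u * a) • gW = MeroLib.secOn (e.inv ≫ φ) W := by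
    refine Eq.symm ?_
    show φ.app W (e.inv.app W (show Γ(Coh.structureModule X, W) from (1 : Γ(X, W)))) = _
    rw [← hu, QCohLib.app_smul, hφ, mul_smul]
  rw [MeroLib.zeroScheme_ideal_of_genOn hL _ (W := ⟨W, hW⟩) hgW hsec, hIW]
  exact Ideal.span_singleton_mul_left_unit huU a

/-- The pullback of a section. -/
def pbSec (g : Y ⟶ X) {L : X.Modules} (s : Coh.structureModule X ⟶ L) : Coh.structureModule Y ⟶ pb g L :=
  (KFlatLib.pullUnitIso g).inv ≫ (Scheme.Modules.pullback g).map s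

theorem secOn_pbSec (g : Y ⟶ X) {L : X.Modules} (s : Coh.structureModule X ⟶ L) {U : X.Opens} {V : Y.Opens}
    (h : V ≤ g ⁻¹ᵁ U) : MeroLib.secOn (pbSec g s) V = puSecLE g L h (MeroLib.secOn s U) := by
  rw [← MeroLib.secOn_res (pbSec g s) h, KFlatLib.puSecLE_apply]
  refine congrArg (res (pb g L) h) ?_
  show ((Scheme.Modules.pullback g).map s).app (g ⁻¹ᵁ U)
    ((KFlatLib.pullUnitIso g).inv.app (g ⁻¹ᵁ U) (show Γ(Coh.structureModule Y, g ⁻¹ᵁ U) from (1 : Γ(Y, g ⁻¹ᵁ U)))) = _
  have h1 : (KFlatLib.pullUnitIso g).inv.app (g ⁻¹ᵁ U)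
      (show Γ(Coh.structureModule Y, g ⁻¹ᵁ U) from (1 : Γ(Y, g ⁻¹ᵁ U))) =
        puSec g (show Γ(Coh.structureModule X, U) from (1 : Γ(X, U))) := by
    refine Eq.trans (congrArg ((KFlatLib.pullUnitIso g).inv.app (g ⁻¹ᵁ U))
      (((CohCmpLib.pullUnitIso_puSec g (show Γ(Coh.structureModule X, U) from (1 : Γ(X, U)))).trans
        (map_one (g.app U).hom)).symm)) ?_
    exact congr(Scheme.Modules.Hom.app $((KFlatLib.pullUnitIso g).hom_inv_id) (g ⁻¹ᵁ U)
      (puSec g (show Γ(Coh.structureModule X, U) from (1 : Γ(X, U)))))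
  rw [h1]
  exact congr(Scheme.Modules.Hom.app
    $((Scheme.Modules.pullbackPushforwardAdjunction g).unit.naturality s) U
      (show Γ(Coh.structureModule X, U) from (1 : Γ(X, U)))).symm

/-- Zero schemes commute with pullback. -/
theorem zeroScheme_pbSec (g : Y ⟶ X) {L : X.Modules} (hL : PicF.IsInvertible L) (s : Coh.structureModule X ⟶ L) :
    PicF2.zeroScheme (pb g L) (pbSec g s) = (PicF2.zeroScheme L s).comap g := by
  refine ext_affine_cover fun y => ?_
  obtain ⟨U₀, e, hyU, he⟩ := TwistLib.exists_genOn hL (g y)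
  obtain ⟨U, hU, hyU', hUU⟩ := exists_isAffineOpen_mem_and_subset (U := U₀) (x := g y) hyU
  obtain ⟨V, hV, hyV, hVU⟩ := exists_isAffineOpen_mem_and_subset (U := g ⁻¹ᵁ U) (x := y) hyU'
  have hle : V ≤ g ⁻¹ᵁ U := hVU
  have heU := he.res (hUU : U ≤ U₀)
  obtain ⟨c, hc⟩ := (heU U le_rfl).2 (MeroLib.secOn s U)
  simp only [AmpleLib.res_refl] at hc
  refine ⟨⟨V, hV⟩, hyV, ?_⟩
  have hgen := CubeLib.genOn_puSecLE g heU hle
  have hsec : (g.appLE U V hle c) • puSecLE g L hle (res L (hUU : U ≤ U₀) e) =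
      MeroLib.secOn (pbSec g s) V := by
    rw [secOn_pbSec g s hle, ← hc, KFlatLib.puSecLE_smul]
  rw [MeroLib.zeroScheme_ideal_of_genOn (AmpleDevLib.isInvertible_pb g hL) _ (W := ⟨V, hV⟩) hgen hsec,
    Groth.Agent.S4666.ideal_comap_eq _ g ⟨U, hU⟩ ⟨V, hV⟩ hle,
    MeroLib.zeroScheme_ideal_of_genOn hL s (W := ⟨U, hU⟩) heU hc, Ideal.map_span, Set.image_singleton]

/-- Unit multiples have the same zero scheme. -/
theorem zeroScheme_congr {L : X.Modules} (hL : PicF.IsInvertible L) (s s' : Coh.structureModule X ⟶ L)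
    {c : Γ(X, ⊤)} (hc : IsUnit c)
    (h : s'.app ⊤ (show Γ(Coh.structureModule X, ⊤) from (1 : Γ(X, ⊤))) =
      c • s.app ⊤ (show Γ(Coh.structureModule X, ⊤) from (1 : Γ(X, ⊤)))) :
    PicF2.zeroScheme L s' = PicF2.zeroScheme L s := by
  refine ext_affine_cover fun x => ?_
  obtain ⟨U₀, e, hxU, he⟩ := TwistLib.exists_genOn hL x
  obtain ⟨U, hU, hxU', hUU⟩ := exists_isAffineOpen_mem_and_subset (U := U₀) (x := x) hxU
  have heU := he.res (hUU : U ≤ U₀)
  obtain ⟨a, ha⟩ := (heU U le_rfl).2 (MeroLib.secOn s U)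
  simp only [AmpleLib.res_refl] at ha
  refine ⟨⟨U, hU⟩, hxU', ?_⟩
  let cU : Γ(X, U) := X.presheaf.map (homOfLE (le_top : U ≤ ⊤)).op c
  have h' : (cU * a) • res L (hUU : U ≤ U₀) e = MeroLib.secOn s' U := by
    rw [mul_smul, ha, AmpleFinGenLib.secOn_eq_res, AmpleFinGenLib.secOn_eq_res]
    exact ((AmpleLib.res_smul L (le_top : U ≤ ⊤) c _).symm.trans (congrArg _ h.symm))
  rw [MeroLib.zeroScheme_ideal_of_genOn hL s (W := ⟨U, hU⟩) heU ha,
    MeroLib.zeroScheme_ideal_of_genOn hL s' (W := ⟨U, hU⟩) heU h']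
  exact Ideal.span_singleton_mul_left_unit (hc.map (X.presheaf.map (homOfLE (le_top : U ≤ ⊤)).op).hom) a

/-- Isomorphic modules, corresponding sections: same zero scheme. -/
theorem zeroScheme_comp_iso {L L' : X.Modules} (hL : PicF.IsInvertible L) (hL' : PicF.IsInvertible L')
    (s : Coh.structureModule X ⟶ L) (e : L ≅ L') :
    PicF2.zeroScheme L' (s ≫ e.hom) = PicF2.zeroScheme L s := by
  refine ext_affine_cover fun x => ?_
  obtain ⟨U₀, g, hxU, hg⟩ := TwistLib.exists_genOn hL x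
  obtain ⟨U, hU, hxU', hUU⟩ := exists_isAffineOpen_mem_and_subset (U := U₀) (x := x) hxU
  have hgU := hg.res (hUU : U ≤ U₀)
  obtain ⟨a, ha⟩ := (hgU U le_rfl).2 (MeroLib.secOn s U)
  simp only [AmpleLib.res_refl] at ha
  refine ⟨⟨U, hU⟩, hxU', ?_⟩
  have h' : a • e.hom.app U (res L (hUU : U ≤ U₀) g) = MeroLib.secOn (s ≫ e.hom) U := by
    rw [← QCohLib.app_smul, ha]
    rfl
  rw [MeroLib.zeroScheme_ideal_of_genOn hL s (W := ⟨U, hU⟩) hgU ha,
    MeroLib.zeroScheme_ideal_of_genOn hL' _ (W := ⟨U, hU⟩) (MeroLib.genOn_iso e.hom hgU) h']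

/-- The ideal of a closed immersion pulls back to the ideal of its base change. -/
theorem comap_ker_of_isPullback {A B A' B' : Scheme.{u}} {x : A ⟶ B} [IsClosedImmersion x] {g : B' ⟶ B}
    {x' : A' ⟶ B'} {g' : A' ⟶ A} (sq : IsPullback g' x' x g) : x.ker.comap g = x'.ker := by
  rw [← Scheme.IdealSheafData.ker_fst_of_isClosedImmersion x g]
  have e : sq.flip.isoPullback.hom ≫ pullback.fst g x = x' := sq.flip.isoPullback_hom_fst
  rw [← e, Scheme.Hom.ker_comp_of_isIso]

end SecDivLib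

end
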