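import Groth.Agent.SecDivLib.Zero
import Groth.Agent.GenusZeroLib.TwoPoints
import Groth.Agent.GenusZeroLib.Degrees
import Groth.Agent.GenusZeroLib.PointIdeal
import Groth.Agent.HurwitzLib.SmoothCurve
import Groth.Agent.FibVALib.Curve
import Groth.Agent.AlgSpRegLib.ImageReduced
import Groth.Agent.AlgSpLib.FibrePts

/-!
# The bundle of a rational point of a curve of positive genus
-/

set_option autoImplicit false
set_option linter.style.haveILetI false
set_option linter.unusedSectionVars false
universe u

open CategoryTheory CategoryTheory.Limits AlgebraicGeometry TopologicalSpace Opposite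

noncomputable section

namespace SecDivLib

variable {k : Type u} [Field k] {C : Scheme.{u}} [C.Over (Spec (CommRingCat.of k))]
  [IsProper (C ↘ Spec (CommRingCat.of k))] [Smooth (C ↘ Spec (CommRingCat.of k))]
  [GeometricallyConnected (C ↘ Spec (CommRingCat.of k))] (hdim : topologicalKrullDim C = 1)

theorem ker_rational (x : Spec (CommRingCat.of k) ⟶ C) (hx : x ≫ (C ↘ Spec (CommRingCat.of k)) = 𝟙 _) :
    x.ker = Scheme.IdealSheafData.vanishingIdeal
      ⟨{x (IsLocalRing.closedPoint k)}, GenusZeroLib.isClosed_rational x hx _⟩ := by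
  haveI : AlgebraicGeometry.IsReduced (Spec (CommRingCat.of k)) := inferInstance
  rw [AlgSpRegLib.ker_eq_vanishingIdeal x]
  congr 1
  refine Closeds.ext ?_
  rw [Closeds.coe_closure]
  have hr : Set.range x = {x (IsLocalRing.closedPoint k)} := Set.eq_singleton_iff_unique_mem.mpr
    ⟨⟨_, rfl⟩, by rintro _ ⟨q, rfl⟩; exact congrArg _ (Subsingleton.elim (α := PrimeSpectrum k) _ _)⟩
  rw [hr, (GenusZeroLib.isClosed_rational x hx _).closure_eq]
  rfl

include hdim in
/-- A section cutting out a rational point is nonzero, and spans the sections if the genus is positive. -/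
theorem mono_and_h0 (x : Spec (CommRingCat.of k) ⟶ C) (hx : x ≫ (C ↘ Spec (CommRingCat.of k)) = 𝟙 _)
    {L : C.Modules} (hL : PicF.IsInvertible L) (s : Coh.structureModule C ⟶ L)
    (hs : PicF2.zeroScheme L s = x.ker) (hg : 1 ≤ Curv2.genus k C) :
    s ≠ 0 ∧ Module.finrank k (Coh.HH C L 0) = 1 := by
  haveI := FibVALib.geometricallyIntegral_of_geometricallyConnected (C ↘ Spec (CommRingCat.of k))
  haveI : IsIntegral C := GeometricallyIntegral.isIntegral_of_subsingleton (C ↘ Spec (CommRingCat.of k))
  have hP : IsClosed ({x (IsLocalRing.closedPoint k)} : Set C) := GenusZeroLib.isClosed_rational x hx _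
  have hne : s ≠ 0 := by
    intro h0
    have hbot : PicF2.zeroScheme L s = ⊥ := by
      refine ext_affine_cover fun y => ?_
      obtain ⟨U₀, e, hyU, he⟩ := TwistLib.exists_genOn hL y
      obtain ⟨U, hU, hyU', hUU⟩ := exists_isAffineOpen_mem_and_subset (U := U₀) (x := y) hyU
      refine ⟨⟨U, hU⟩, hyU', ?_⟩
      rw [MeroLib.zeroScheme_ideal_of_genOn hL s (W := ⟨U, hU⟩) (he.res (hUU : U ≤ U₀)) (c := 0)
        (by rw [zero_smul, h0]; rfl), Scheme.IdealSheafData.ideal_bot]
      simp
    rw [hs, ker_rational x hx] at hbot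
    have hsupp := congrArg (fun J : C.IdealSheafData => (J.support : Set C)) hbot
    simp only [Scheme.IdealSheafData.coe_support_vanishingIdeal, Scheme.IdealSheafData.support_bot] at hsupp
    haveI : Subsingleton C := ⟨fun a b => by
      have ha : a ∈ ({x (IsLocalRing.closedPoint k)} : Set C) := hsupp.ge trivial
      have hb : b ∈ ({x (IsLocalRing.closedPoint k)} : Set C) := hsupp.ge trivial
      exact ha.trans hb.symm⟩
    have : topologicalKrullDim C ≤ 0 := AlgSpLib.topologicalKrullDim_le_zero_of_subsingleton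
    rw [hdim] at this
    exact absurd this (by decide)
  refine ⟨hne, ?_⟩
  haveI : Mono s := CurvLib.mono_of_ne_zero CurvLib.isInvertible_structureModule hL hne
  have h0 := FibVALib.finrank_h0_structure k C hdim
  haveI : IsDiscreteValuationRing (C.presheaf.stalk (x (IsLocalRing.closedPoint k))) :=
    HurwitzLib.dvr_stalk_closed (k := k) hdim hP
  obtain ⟨I, ⟨eI⟩, hI, hId⟩ := GenusZeroLib.exists_idealMod_iso (k := k) hP hdim
  rw [GenusZeroLib.finrank_residueField_rational x hx] at hId
  obtain ⟨e⟩ := AmpleFinGenLib.idealMod_tensor_iso hL s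
  rw [hs, ker_rational x hx] at e
  have hd := GenusZeroLib.deg_tensor k hdim hI hL
  rw [CurvLib.deg_congr (k := k) (HilbPolyLib.congrLeft eI L ≪≫ e) 1, hId] at hd
  have hdeg : Curv2.deg k C L 1 = 1 := by
    have : Curv2.deg k C (Coh.structureModule C) 1 = 0 := by simp [Curv2.deg]
    omega
  refine le_antisymm ?_ ?_
  · by_contra hlt
    push Not at hlt
    haveI := GenusZeroLib.subsingleton_h1_of_pencil k hdim hL hdeg hlt
    have : Curv2.genus k C = 0 := Module.finrank_zero_of_subsingleton
    omega
  · haveI := CurvLib.finite_HH (k := k) (CurvLib.isCoh_of_isInvertible hL) 0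
    refine Nat.one_le_iff_ne_zero.mpr fun h => hne ?_
    haveI : Subsingleton (Coh.HH C L 0) := Module.finrank_zero_iff.mp h
    refine ProjSecLib.eq_zero_of_sec _ ?_
    exact ((DegPullLib.e0 L).apply_symm_apply _).symm.trans
      ((congrArg (DegPullLib.e0 L) (Subsingleton.elim _ 0)).trans (map_zero _))

end SecDivLib

end
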