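import Groth.Agent.SecDivLib.Family
import Groth.Agent.CohCmpLib.SectionPair

/-!
# A bundle of degree one determines its section
-/

set_option autoImplicit false
set_option linter.style.haveILetI false
set_option linter.unusedSectionVars false
set_option maxRecDepth 8000
universe u

open CategoryTheory CategoryTheory.Limits AlgebraicGeometry TopologicalSpace Opposite

noncomputable section

namespace SecDivLib

variable {C S : Scheme.{u}} (f : C ⟶ S)

theorem exists_secHom_ker {L : C.Modules} (hL : PicF.IsInvertible L) (x : S ⟶ C)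
    (h : ClSub.IsInverseOf L (ClSub.idealMod x.ker)) :
    ∃ σ : Coh.structureModule C ⟶ L, PicF2.zeroScheme L σ = x.ker :=
  exists_secHom hL
    (IntMultLib.isEffCartier_of_isInvertible x.ker (CohCmpLib.isInvertible_of_inverse' hL h.some)) h

variable [IsProper f] [Smooth f] [GeometricallyConnected f]
  (hdim : ∀ s : S, topologicalKrullDim ↥(f.fiber s) = 1)
  (hg : ∀ s : S, 1 ≤ CohIII.fiberRank f (Coh.structureModule C) 1 s)

include hdim hg in
/-- Two sections with the same bundle are equal. -/
theorem section_unique_of_sections (x x' : S ⟶ C) (hx : x ≫ f = 𝟙 S) (hx' : x' ≫ f = 𝟙 S) {L : C.Modules}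
    (hL : PicF.IsInvertible L) (σ : Coh.structureModule C ⟶ L) (hσ : PicF2.zeroScheme L σ = x.ker)
    (σ' : Coh.structureModule C ⟶ L) (hσ' : PicF2.zeroScheme L σ' = x'.ker) : x' = x := by
  haveI := (push_section f hdim hg x hx hL σ hσ).2
  haveI := (push_section f hdim hg x' hx' hL σ' hσ').2
  let one : Γ(Coh.structureModule C, ⊤) := show Γ(C, ⊤) from 1
  have key : ∀ τ : Coh.structureModule C ⟶ L,
      IsIso (ClSub.unitToPush f ≫ (Scheme.Modules.pushforward f).map τ) →
        Function.Bijective fun c : Γ(S, ⊤) => (f.appTop c) • τ.app ⊤ one := fun τ hτ => by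
    have e : (fun c : Γ(S, ⊤) => (f.appTop c) • τ.app ⊤ one) =
        fun c : Γ(S, ⊤) => (ClSub.unitToPush f ≫ (Scheme.Modules.pushforward f).map τ).app ⊤
          (show Γ(Coh.structureModule S, ⊤) from c) :=
      funext fun c => (AmpleFinGenLib.app_eq_smul_secOn τ ⊤ (f.appTop c)).symm
    rw [e]
    exact ConcreteCategory.bijective_of_isIso
      ((ClSub.unitToPush f ≫ (Scheme.Modules.pushforward f).map τ).app ⊤)
  obtain ⟨a, ha⟩ := (key σ inferInstance).2 (σ'.app ⊤ one)
  obtain ⟨b, hb⟩ := (key σ' inferInstance).2 (σ.app ⊤ one)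
  simp only at ha hb
  have hab : b * a = 1 := (key σ inferInstance).1 (by
    simp only
    rw [map_mul, mul_smul, ha, hb, map_one, one_smul])
  have hu : IsUnit (f.appTop a) := (IsUnit.of_mul_eq_one b (by rw [mul_comm]; exact hab)).map f.appTop.hom
  have hker : x'.ker = x.ker := by
    rw [← hσ, ← hσ']
    exact zeroScheme_congr hL σ σ' hu ha.symm
  haveI : IsClosedImmersion x := by
    haveI : IsClosedImmersion (x ≫ f) := by rw [hx]; infer_instance
    exact IsClosedImmersion.of_comp x f
  have hl := IsClosedImmersion.lift_fac x x' hker.ge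
  have : IsClosedImmersion.lift x x' hker.ge = 𝟙 S := by
    rw [← Category.comp_id (IsClosedImmersion.lift x x' hker.ge), ← hx, ← Category.assoc, hl, hx', hx]
  rw [← hl, this, Category.id_comp]

include hdim hg in
/-- Two sections with the same bundle are equal. -/
theorem section_unique (x x' : S ⟶ C) (hx : x ≫ f = 𝟙 S) (hx' : x' ≫ f = 𝟙 S) {L : C.Modules}
    (hL : PicF.IsInvertible L) (h : ClSub.IsInverseOf L (ClSub.idealMod x.ker))
    (h' : ClSub.IsInverseOf L (ClSub.idealMod x'.ker)) : x' = x := by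
  obtain ⟨σ, hσ⟩ := exists_secHom_ker hL x h
  obtain ⟨σ', hσ'⟩ := exists_secHom_ker hL x' h'
  exact section_unique_of_sections f hdim hg x x' hx hx' hL σ hσ σ' hσ'

include hdim hg in
/-- Two sections with isomorphic bundles are equal. -/
theorem section_unique_of_iso (x x' : S ⟶ C) (hx : x ≫ f = 𝟙 S) (hx' : x' ≫ f = 𝟙 S) {L L' : C.Modules}
    (hL : PicF.IsInvertible L) (hL' : PicF.IsInvertible L') (e : L ≅ L')
    (σ : Coh.structureModule C ⟶ L) (hσ : PicF2.zeroScheme L σ = x.ker)
    (σ' : Coh.structureModule C ⟶ L') (hσ' : PicF2.zeroScheme L' σ' = x'.ker) : x' = x :=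
  section_unique_of_sections f hdim hg x x' hx hx' hL' (σ ≫ e.hom)
    ((zeroScheme_comp_iso hL hL' σ e).trans hσ) σ' hσ'

end SecDivLib

end
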